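import Cfsg.Agent.Cores.DihedralCount
import Cfsg.Agent.BlockBasic.Local

/-!
# The numerical form of the dihedral order formula

For a group with dihedral Sylow `2`-subgroup and one class of involutions the order is pinned
within a factor `45 / 21` by the centralisers of an involution and of the two four groups; so a
subgroup with one class of involutions containing such a centraliser has index at most `2`.
-/

set_option autoImplicit false
set_option linter.style.haveILetI false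

namespace Cfsg.Agent.H35.GW

open Cfsg.Agent.BlockBasic Cfsg.Agent.CharBasic Cfsg.Agent.H39
open scoped ComplexConjugate

universe u

/-- The factor `x (x + δ) / (x - δ) ^ 2`. -/
def ratio (x : ℕ) (δ : ℤ) : ℚ := (x : ℚ) * ((x : ℚ) + δ) / ((x : ℚ) - δ) ^ 2

theorem ratio_bounds {x : ℕ} {δ : ℤ} (hδ : δ = 1 ∨ δ = -1) (hx : 0 < x) (hne : (x : ℤ) ≠ δ)
    (h8 : (8 : ℤ) ∣ (x : ℤ) - δ) : 21 / 32 ≤ ratio x δ ∧ ratio x δ ≤ 45 / 32 := by
  obtain ⟨k, hk⟩ := h8
  have hk1 : 1 ≤ k := by rcases hδ with rfl | rfl <;> omega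
  have hxk : (x : ℚ) = 8 * (k : ℚ) + δ := by
    have : (x : ℤ) = 8 * k + δ := by omega
    exact_mod_cast congrArg (Int.cast : ℤ → ℚ) this
  have hkq : (1 : ℚ) ≤ (k : ℚ) := by exact_mod_cast hk1
  have hpos : (0 : ℚ) < (8 * (k : ℚ)) ^ 2 := by positivity
  unfold ratio
  rw [hxk, show 8 * (k : ℚ) + δ - δ = 8 * k by ring]
  rcases hδ with rfl | rfl <;> push_cast <;> constructor
  · rw [le_div_iff₀ hpos]; nlinarith
  · rw [div_le_iff₀ hpos]; nlinarith
  · rw [le_div_iff₀ hpos]; nlinarith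
  · rw [div_le_iff₀ hpos]; nlinarith

variable {G : Type u} [Group G] [Finite G]

/-- The right-hand factor of the order formula, made of centraliser orders alone. -/
noncomputable def localTerm (J a b : G) : ℚ :=
  2 * (Nat.card (Subgroup.centralizer ({J} : Set G)) : ℚ) ^ 3 *
    (1 / (Nat.card (Subgroup.centralizer ({J, a} : Set G)) : ℚ) +
      1 / (Nat.card (Subgroup.centralizer ({J, b} : Set G)) : ℚ)) ^ 2

theorem localTerm_pos (J a b : G) : 0 < localTerm J a b := by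
  have h1 : (0 : ℚ) < (Nat.card (Subgroup.centralizer ({J} : Set G)) : ℚ) := by
    exact_mod_cast Nat.card_pos
  have h2 : (0 : ℚ) < (Nat.card (Subgroup.centralizer ({J, a} : Set G)) : ℚ) := by
    exact_mod_cast Nat.card_pos
  have h3 : (0 : ℚ) < (Nat.card (Subgroup.centralizer ({J, b} : Set G)) : ℚ) := by
    exact_mod_cast Nat.card_pos
  unfold localTerm
  positivity

/-- A member of the principal block constant on the nonidentity elements of `P` has degree
congruent to that constant modulo `|P|`. -/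
theorem card_dvd_sub {P : Sylow 2 G} (χ : IrrCharacter G) (δ : ℤ)
    (hval : ∀ g ∈ (P : Subgroup G), g ≠ 1 → (χ : G → ℂ) g = δ) :
    (Nat.card (P : Subgroup G) : ℤ) ∣ (charDegree (χ : G → ℂ) : ℤ) - δ := by
  classical
  haveI := Fintype.ofFinite (P : Subgroup G)
  obtain ⟨m, hm⟩ := classInner_isChar_nat
    (CharInduce.IsChar.res (IsIrr.isCharacter χ.2) (P : Subgroup G))
    (IsIrr.isCharacter (trivialIrr (G := (P : Subgroup G))).2)
  have hsum : ∑ g : (P : Subgroup G), (χ : G → ℂ) g =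
      (charDegree (χ : G → ℂ) : ℂ) + ((Nat.card (P : Subgroup G) : ℂ) - 1) * δ := by
    rw [← Finset.add_sum_erase Finset.univ _ (Finset.mem_univ 1),
      Finset.sum_congr rfl (g := fun _ : (P : Subgroup G) => (δ : ℂ)) (fun (g : (P : Subgroup G)) hg =>
        hval g g.2 fun h => (Finset.mem_erase.1 hg).1 (Subtype.ext h)),
      Finset.sum_const, Finset.card_erase_of_mem (Finset.mem_univ 1), Finset.card_univ,
      nsmul_eq_mul, Nat.card_eq_fintype_card, Nat.cast_sub Fintype.card_pos, Nat.cast_one,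
      OneMemClass.coe_one, apply_one_eq_charDegree χ]
  have h0 : (Nat.card (P : Subgroup G) : ℂ) ≠ 0 := Nat.cast_ne_zero.2 Nat.card_pos.ne'
  have hone : ∀ g : (P : Subgroup G),
      conj ((trivialIrr (G := (P : Subgroup G))).1 g) = 1 := fun g => by
    show conj (1 : ℂ) = 1
    exact map_one _
  rw [classInner_def] at hm
  simp only [hone, mul_one] at hm
  rw [hsum, inv_mul_eq_iff_eq_mul₀ h0] at hm
  refine ⟨(m : ℤ) - δ, ?_⟩
  have h2 : ((charDegree (χ : G → ℂ) : ℤ) : ℂ) - (δ : ℂ) =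
      (((Nat.card (P : Subgroup G) : ℤ) * ((m : ℤ) - δ) : ℤ) : ℂ) := by
    push_cast
    linear_combination hm
  exact_mod_cast h2

/-- **The order formula in numerical form.** -/
theorem exists_order_formula {P : Sylow 2 G} {h : ℕ} {σ τ : G}
    (hD : DGen (P : Subgroup G) h σ τ) (hh : 2 ≤ h)
    (hone : ∀ a b : G, orderOf a = 2 → orderOf b = 2 → IsConj a b) :
    ∃ (x : ℕ) (δ : ℤ), (δ = 1 ∨ δ = -1) ∧ 0 < x ∧ (x : ℤ) ≠ δ ∧
      (Nat.card (P : Subgroup G) : ℤ) ∣ (x : ℤ) - δ ∧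
      (Nat.card G : ℚ) = ratio x δ * localTerm (σ ^ h) τ (σ * τ) := by
  classical
  obtain ⟨M, hM⟩ := exists_isPModular (p := 2) Nat.prime_two
  obtain ⟨χ₁, χ₂, χ₃, χ', δ₁, δ₂, δ₃, hδ₁, -, -, -, ⟨n1, -, -, -, -, -⟩, -, hB, hval, -⟩ :=
    Cores.dihedral_principal_block hD hh hM (Complex.isPrimitiveRoot_exp (2 * h) (by omega))
  have hstz : σ * τ = σ ^ (1 : ℤ) * τ := by rw [zpow_one]
  have hconj : IsConj (σ ^ h) τ ∧ IsConj (σ ^ h) (σ * τ) :=
    ⟨hone _ _ hD.z_order hD.os, hone _ _ hD.z_order (hstz ▸ hD.orderOf_out 1)⟩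
  have hv : ∀ l : ℕ, 0 < l → l < 2 * h → (χ₁ : G → ℂ) (σ ^ l) = δ₁ := fun l h1 h2 =>
    (hval l h1 h2).1
  have hχ₁ : χ₁ ∈ principalBlock M G := (hB χ₁).2 (Or.inr (Or.inl rfl))
  obtain ⟨hne, hform⟩ := Cores.dihedral_order_formula hD hh hM hconj χ₁ hχ₁ n1 δ₁ hδ₁ hv
  refine ⟨charDegree (χ₁ : G → ℂ), δ₁, hδ₁, charDegree_pos χ₁, hne, card_dvd_sub χ₁ δ₁ ?_, ?_⟩
  · intro g hg h1
    by_cases hgc : g ∈ Subgroup.zpowers σ
    · rw [mem_zpowers_iff_mem_range_orderOf, Finset.mem_image] at hgc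
      obtain ⟨l, hl, rfl⟩ := hgc
      rw [Finset.mem_range, hD.oc] at hl
      exact hv l (Nat.pos_of_ne_zero fun h0 => h1 (by rw [h0, pow_zero])) hl
    · obtain ⟨i, rfl⟩ := hD.out_form hg hgc
      obtain ⟨c, hc⟩ := isConj_iff.1 (hone (σ ^ h) (σ ^ i * τ) hD.z_order (hD.orderOf_out i))
      rw [← hc, IsIrr.isClassFunction χ₁.2]
      exact hv h (by omega) (by omega)
  · have hd : ((charDegree (χ₁ : G → ℂ) : ℚ) - δ₁) ≠ 0 := by
      intro h0
      apply hne
      exact_mod_cast sub_eq_zero.1 h0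
    have hq : (Nat.card G : ℚ) * ((charDegree (χ₁ : G → ℂ) : ℚ) - δ₁) ^ 2 =
        (charDegree (χ₁ : G → ℂ) : ℚ) * ((charDegree (χ₁ : G → ℂ) : ℚ) + δ₁) *
          localTerm (σ ^ h) τ (σ * τ) := by
      apply Rat.cast_injective (α := ℂ)
      unfold localTerm
      push_cast
      linear_combination hform
    unfold ratio
    rw [div_mul_eq_mul_div, eq_div_iff (pow_ne_zero 2 hd)]
    exact hq

/-- The two-sided bound on the group order. -/
theorem card_bounds {P : Sylow 2 G} {h : ℕ} {σ τ : G}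
    (hD : DGen (P : Subgroup G) h σ τ) (hh : 2 ≤ h)
    (hone : ∀ a b : G, orderOf a = 2 → orderOf b = 2 → IsConj a b) :
    21 / 32 * localTerm (σ ^ h) τ (σ * τ) ≤ (Nat.card G : ℚ) ∧
      (Nat.card G : ℚ) ≤ 45 / 32 * localTerm (σ ^ h) τ (σ * τ) := by
  obtain ⟨x, δ, hδ, hx, hne, hdvd, he⟩ := exists_order_formula hD hh hone
  have h8 : (8 : ℤ) ∣ (x : ℤ) - δ := by
    refine dvd_trans ?_ hdvd
    haveI : Fact (Nat.Prime 2) := ⟨Nat.prime_two⟩
    obtain ⟨k, hk⟩ := IsPGroup.iff_card.1 P.isPGroup'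
    have hle : 4 * 2 ≤ Nat.card (P : Subgroup G) := by
      have hsub : 2 * h ≤ Nat.card (P : Subgroup G) := by
        rw [← hD.oc, ← Nat.card_zpowers]
        exact Subgroup.card_le_of_le hD.zpowers_le
      have hlt : Nat.card (Subgroup.zpowers σ) ≠ Nat.card (P : Subgroup G) := fun e =>
        hD.out ((Subgroup.eq_of_le_of_card_ge hD.zpowers_le e.ge).symm ▸ hD.mem_s)
      obtain ⟨q, hq⟩ := Subgroup.card_dvd_of_le hD.zpowers_le
      rw [Nat.card_zpowers, hD.oc] at hq hlt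
      have : 2 ≤ q := by
        rcases q with _ | _ | q
        · exact absurd (hq.trans (mul_zero _)) Nat.card_pos.ne'
        · exact absurd (hq.trans (mul_one _)).symm hlt
        · omega
      calc 4 * 2 ≤ (2 * h) * q := Nat.mul_le_mul (by omega) this
        _ = _ := hq.symm
    have hk3 : 3 ≤ k := by
      by_contra hlt
      have : 2 ^ k ≤ 2 ^ 2 := Nat.pow_le_pow_right (by norm_num) (by omega)
      omega
    rw [hk]
    exact_mod_cast pow_dvd_pow 2 hk3
  obtain ⟨h1, h2⟩ := ratio_bounds hδ hx hne h8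
  rw [he]
  exact ⟨mul_le_mul_of_nonneg_right h1 (localTerm_pos _ _ _).le,
    mul_le_mul_of_nonneg_right h2 (localTerm_pos _ _ _).le⟩

end Cfsg.Agent.H35.GW
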