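import Cfsg.Agent.H80.GW.LinearKill
import Cfsg.Agent.H62.GW.MixedPoint
import Cfsg.Agent.OddOrder.BG4.RankTwo
import Cfsg.Agent.H74.CyclicBasic
import Cfsg.Agent.H75.Basic

/-!
# GW programme, M3: `D = E`

`c` centralises `O = O(C(t))`.  No nontrivial linear character of `O` is fixed by `s`, so
`D = C_O(s)` lies in the derived group of `O`; each `O_r(O)` has rank at most two, so the derived
group acts on it as an `r`-group, hence lies in `F(O)`.
-/

set_option autoImplicit false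
set_option linter.unusedSectionVars false
set_option linter.style.haveILetI false

namespace Cfsg.Agent.H35.GW

open Subgroup Cfsg.Agent
open Cfsg.Agent.GW (Cfg coreAt coreIn pairCore CentMax Fuses)
open Cfsg.Agent.Components (pCoreIn fitIn layerIn)
open Cfsg.Agent.H62.GW
open scoped commutatorElement

universe u

variable {G : Type u} [Group G] [Finite G] {S : Sylow 2 G} {l : ℕ} {c s : G} {L : Subgroup G}

/-- An element of `L` fusing `⟨t, b⟩`, `b ∈ {s, cs}`, centralises `C_O(b)`. -/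
theorem commute_fuser (hM : MixedData S l c s L) (hc : ∀ o ∈ coreAt (c ^ l), Commute c o)
    {g b : G} (hb : b = s ∨ b = c * s) (hgL : g ∈ L) (hg : Fuses g (c ^ l) b) :
    ∀ d ∈ pairCore (c ^ l) b, Commute g d := by
  have hfix : ∀ d ∈ pairCore (c ^ l) b, Commute d s := fun d hd => by
    have h1 : Commute d b := mem_centralizer_singleton_iff.1 hd.2
    rcases hb with rfl | rfl
    · exact h1
    · simpa using (hc d hd.1).symm.inv_right.mul_right h1
  intro d hd
  have hgd : g * d * g⁻¹ ∈ pairCore (c ^ l) b :=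
    Coprime.conj_mem (H80.GW.M2.fuses_mem_normalizer_pairCore hM.cfg hg) hd
  have hdL : d ∈ normalizer (L : Set G) := hM.layer_norm d (coreAt_le _ hd.1)
    (hM.pair_norm ⟨hd.1, mem_centralizer_singleton_iff.2 (hfix d hd).eq⟩)
  set w := g * d * g⁻¹ * d⁻¹ with hw
  have hwL : w ∈ L := by
    rw [hw, show g * d * g⁻¹ * d⁻¹ = g * (d * g⁻¹ * d⁻¹) by group]
    exact mul_mem hgL (Coprime.conj_mem hdL (inv_mem hgL))
  have hwO : w ∈ coreAt (c ^ l) := mul_mem hgd.1 (inv_mem hd.1)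
  have hw1 : w = 1 := eq_one_of_inverted (odd_orderOf_of_mem (odd_coreAt _) hwO)
    (hM.torus_inverted w ⟨hwO, hwL⟩) ((hfix _ hgd).mul_left (hfix d hd).inv_left).symm
  exact mul_inv_eq_iff_eq_mul.1 (mul_inv_eq_one.1 hw1)

/-- `cs ∈ L` is fused with `t` inside `L`. -/
theorem exists_fuser_right (hM : MixedData S l c s L) (hcsL : c * s ∈ L) :
    ∃ g ∈ L, Fuses g (c ^ l) (c * s) := by
  obtain ⟨x, hx, hx1⟩ := (Subgroup.bot_or_exists_ne_one _).resolve_left hM.ne
  obtain ⟨r, hr, hdvd⟩ := Nat.exists_prime_and_dvd (fun h => hx1 (orderOf_eq_one_iff.1 h))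
  have he : orderOf (x ^ (orderOf x / r)) = r :=
    orderOf_pow_orderOf_div (orderOf_pos x).ne' hdvd
  set e := x ^ (orderOf x / r)
  have heL := hM.layer_eq e (pow_mem hx _) (he.symm ▸ hr)
  have htne := H39.ne_one_of_orderOf_eq_two hM.cfg.gen.z_order
  have hLS := layerStep' S l c s hM.cfg (centralizer ({e} : Set G))
    (centralizer_singleton_ne_top hM.cfg (fun h => hr.ne_one (by rw [← he, h, orderOf_one])))
    (fun h => htne ((mem_bot (G := G)).1 (h ▸ heL.symm ▸ hM.t_mem)))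
  have hcs2 : orderOf (c * s) = 2 := by simpa using hM.cfg.gen.orderOf_out 1
  have hcs : c * s ∈ (S : Subgroup G) := mul_mem hM.cfg.gen.mem_c hM.cfg.gen.mem_s
  obtain ⟨g, hgL, hg, -⟩ := hLS.fuse_fixed (c ^ l) (c * s) (heL.symm ▸ hM.t_mem)
    (heL.symm ▸ hcsL) hM.cfg.gen.z_order hcs2 (H80.GW.M2.ne_z_of_out hM.cfg).2.symm
    (Commute.symm (hM.cfg.gen.z_central hcs)) ⊥ bot_le
    (by rw [Subgroup.card_bot]; exact odd_one) (fun z hz => by
      rw [(mem_bot (G := G)).1 hz]; exact ⟨Commute.one_left _, Commute.one_left _⟩)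
  exact ⟨g, heL ▸ hgL, hg⟩

/-- Conjugation by `s` on `O`. -/
noncomputable def conjS (hM : MixedData S l c s L) :
    ↥(coreAt (c ^ l)) →* ↥(coreAt (c ^ l)) :=
  (((MulAut.conj s).toMonoidHom.comp (coreAt (c ^ l)).subtype).codRestrict (coreAt (c ^ l))
    fun x => conj_mem_coreAt (hM.cfg.gen.z_central hM.cfg.gen.mem_s) x.2)

theorem conjS_val (hM : MixedData S l c s L) (x : ↥(coreAt (c ^ l))) :
    (conjS hM x : G) = s * x * s⁻¹ := rfl

/-- KILL: `s` fixes no proper normal subgroup's cosets in `O`. -/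
theorem eq_top_of_fixed (hM : MixedData S l c s L) (hc : ∀ o ∈ coreAt (c ^ l), Commute c o)
    (hcsL : c * s ∈ L) (N : Subgroup ↥(coreAt (c ^ l))) [N.Normal]
    (hfix : ∀ x, x⁻¹ * conjS hM x ∈ N) : N = ⊤ := by
  classical
  by_contra hN
  have h := hM.cfg
  haveI : Group.IsSolvable ↥(coreAt (c ^ l)) := isSolvable_coreAt _
  haveI : Group.IsSolvable (↥(coreAt (c ^ l)) ⧸ N) :=
    Group.isSolvable_of_surjective (QuotientGroup.mk'_surjective N)
  haveI : Nontrivial (↥(coreAt (c ^ l)) ⧸ N) := QuotientGroup.nontrivial_iff.2 hN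
  obtain ⟨μ, hμ⟩ := H84.exists_hom_ne_one_of_imperfect
    (Group.IsSolvable.commutator_lt_top_of_nontrivial (↥(coreAt (c ^ l)) ⧸ N)).ne
  let μ' : ↥(coreAt (c ^ l)) →* ℂˣ := μ.comp (QuotientGroup.mk' N)
  let ψ : G → ℂ := fun y => if hy : y ∈ coreAt (c ^ l) then ((μ' ⟨y, hy⟩ : ℂˣ) : ℂ) else 0
  have hψO : ∀ y (hy : y ∈ coreAt (c ^ l)), ψ y = ((μ' ⟨y, hy⟩ : ℂˣ) : ℂ) := fun y hy => dif_pos hy
  have hψmul : ∀ x ∈ coreAt (c ^ l), ∀ y ∈ coreAt (c ^ l), ψ (x * y) = ψ x * ψ y :=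
    fun x hx y hy => by
      rw [hψO x hx, hψO y hy, hψO _ (mul_mem hx hy), ← Units.val_mul, ← map_mul]
      rfl
  have hψ1 : ψ 1 = 1 := by
    rw [hψO 1 (one_mem _), show (⟨1, one_mem _⟩ : ↥(coreAt (c ^ l))) = 1 from rfl, map_one,
      Units.val_one]
  have hψnt : ∃ x ∈ coreAt (c ^ l), ψ x ≠ 1 := by
    by_contra! hh
    refine hμ (MonoidHom.ext fun q => ?_)
    obtain ⟨⟨x, hx⟩, rfl⟩ := QuotientGroup.mk'_surjective N q
    refine Units.ext ?_
    have := hh x hx
    rw [hψO x hx] at this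
    exact this
  have hst : Commute s (c ^ l) := h.gen.z_central h.gen.mem_s
  have hinvs : ∀ y ∈ coreAt (c ^ l), ψ (s * y * s⁻¹) = ψ y := by
    intro y hy
    have hsy := conj_mem_coreAt hst hy
    have e : QuotientGroup.mk' N (conjS hM ⟨y, hy⟩) = QuotientGroup.mk' N ⟨y, hy⟩ :=
      (QuotientGroup.eq.2 (hfix ⟨y, hy⟩)).symm
    rw [hψO _ hsy, hψO _ hy]
    exact congrArg (fun q => ((μ q : ℂˣ) : ℂ)) e
  obtain ⟨g, hgL, hg⟩ := hM.fuse
  obtain ⟨g', hgL', hg'⟩ := exists_fuser_right hM hcsL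
  have hab := H80.GW.abelian_of_linear_sylow h ⟨g, hg, commute_fuser hM hc (.inl rfl) hgL hg⟩
    ⟨g', hg', commute_fuser hM hc (.inr rfl) hgL' hg'⟩ hψmul hψ1 hψnt fun x hx y hy => by
      rcases h.gen.cases x hx with hxc | hxc
      · obtain ⟨i, rfl⟩ := mem_zpowers_iff.1 hxc
        rw [((hc y hy).zpow_left i).eq, mul_inv_cancel_right]
      · obtain ⟨i, hi⟩ := mem_zpowers_iff.1 hxc
        have hss : s * s = 1 := H39.mul_self_of_orderOf_eq_two h.gen.os
        have hx' : x = c ^ i * s := by rw [hi, mul_assoc, hss, mul_one]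
        have hsy := conj_mem_coreAt hst hy
        rw [hx', show c ^ i * s * y * (c ^ i * s)⁻¹ = c ^ i * (s * y * s⁻¹) * (c ^ i)⁻¹ by group,
          ((hc _ hsy).zpow_left i).eq, mul_inv_cancel_right, hinvs y hy]
  exact H80.GW.M2.false_of_abelian h hM.cmax
    (fun e => hM.ne (eq_bot_iff.2 ((fixPart_le_pairCore _ _).trans e.le)))
    (fun o ho => (hc o ho).mul_left (hc o ho)) hab

/-- `D` lies in the derived group of `O`. -/
theorem pairCore_le_commutator (hM : MixedData S l c s L)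
    (hc : ∀ o ∈ coreAt (c ^ l), Commute c o) (hcsL : c * s ∈ L) {d : ↥(coreAt (c ^ l))}
    (hd : Commute (d : G) s) : d ∈ _root_.commutator ↥(coreAt (c ^ l)) := by
  set φ : ↥(coreAt (c ^ l)) →* Abelianization ↥(coreAt (c ^ l)) := Abelianization.of
  set ρ := φ * φ.comp (conjS hM) with hρ
  have htop := eq_top_of_fixed hM hc hcsL ρ.ker fun x => by
    have hσσ : conjS hM (conjS hM x) = x := Subtype.ext (by
      rw [conjS_val, conjS_val]
      have hss : s * s = 1 := H39.mul_self_of_orderOf_eq_two hM.cfg.gen.os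
      calc s * (s * (x : G) * s⁻¹) * s⁻¹ = s * s * x * (s * s)⁻¹ := by group
        _ = x := by rw [hss, one_mul, inv_one, mul_one])
    rw [MonoidHom.mem_ker, hρ, MonoidHom.mul_apply, MonoidHom.comp_apply, map_mul (conjS hM),
      map_inv, hσσ, map_mul, map_mul, map_inv, map_inv]
    simp [mul_assoc, mul_comm, mul_left_comm]
  have hσd : conjS hM d = d := Subtype.ext (by rw [conjS_val, ← hd.eq, mul_inv_cancel_right])
  have h2 : φ d * φ d = 1 := by
    have := htop ▸ mem_top (G := ↥(coreAt (c ^ l))) d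
    rwa [MonoidHom.mem_ker, hρ, MonoidHom.mul_apply, MonoidHom.comp_apply, hσd] at this
  have h1 : φ d = 1 := eq_one_of_odd
    (((odd_coreAt _).of_dvd_nat (orderOf_dvd_natCard d)).of_dvd_nat (orderOf_map_dvd φ d)) h2
  rwa [← MonoidHom.mem_ker, Abelianization.ker_of] at h1

/-- `s` inverting a normal subgroup makes `O` centralise it. -/
theorem centralises_of_fpf (hM : MixedData S l c s L) (hc : ∀ o ∈ coreAt (c ^ l), Commute c o)
    (hcsL : c * s ∈ L) {U : Subgroup G}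
    (hn : centralizer ({c ^ l} : Set G) ≤ normalizer (U : Set G))
    (hfp : ∀ v ∈ U, Commute s v → v = 1) :
    ∀ x ∈ coreAt (c ^ l), ∀ v ∈ U, Commute x v := by
  have hss : s * s = 1 := H39.mul_self_of_orderOf_eq_two hM.cfg.gen.os
  have hsC : s ∈ centralizer ({c ^ l} : Set G) :=
    mem_centralizer_singleton_iff.2 (hM.cfg.gen.z_central hM.cfg.gen.mem_s)
  have hinv := H77.GW.inverts_of_fpf hss (hn hsC) hfp
  let N : Subgroup ↥(coreAt (c ^ l)) := (centralizer (U : Set G)).subgroupOf _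
  haveI : N.Normal := ⟨fun n hn' g => by
    refine mem_subgroupOf.2 (mem_centralizer_iff.2 fun v hv => ?_)
    have hv' : (g : G)⁻¹ * v * g ∈ U := Coprime.conj_mem' (hn (coreAt_le _ g.2)) hv
    have h1 : Commute (n : G) ((g : G)⁻¹ * v * g) :=
      (mem_centralizer_iff.1 (mem_subgroupOf.1 hn') _ hv').symm
    have h2 := h1.map (MulAut.conj (g : G)).toMonoidHom
    simp only [MulEquiv.coe_toMonoidHom, MulAut.conj_apply] at h2
    rw [show (g : G) * ((g : G)⁻¹ * v * g) * (g : G)⁻¹ = v by group] at h2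
    simpa using h2.eq.symm⟩
  have htop := eq_top_of_fixed hM hc hcsL N fun x => by
    refine mem_subgroupOf.2 (mem_centralizer_iff.2 fun v hv => ?_)
    have hxv : (x : G) * v * (x : G)⁻¹ ∈ U := Coprime.conj_mem (hn (coreAt_le _ x.2)) hv
    have hsv : s * v * s⁻¹ = v⁻¹ := hinv v hv
    have h1 : (s * (x : G) * s⁻¹) * v * (s * (x : G) * s⁻¹)⁻¹ = (x : G) * v * (x : G)⁻¹ := by
      have hv2 : s⁻¹ * v * s = v⁻¹ := by
        rw [inv_eq_of_mul_eq_one_right hss]
        nth_rw 2 [← inv_eq_of_mul_eq_one_right hss]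
        exact hsv
      calc (s * (x : G) * s⁻¹) * v * (s * (x : G) * s⁻¹)⁻¹
          = s * ((x : G) * (s⁻¹ * v * s) * (x : G)⁻¹) * s⁻¹ := by group
        _ = (s * ((x : G) * v * (x : G)⁻¹) * s⁻¹)⁻¹ := by rw [hv2]; group
        _ = _ := by rw [hinv _ hxv, inv_inv]
    rw [show ((x⁻¹ * conjS hM x : ↥(coreAt (c ^ l))) : G) = (x : G)⁻¹ * (s * x * s⁻¹) from rfl]
    calc v * ((x : G)⁻¹ * (s * x * s⁻¹))
        = (x : G)⁻¹ * ((x : G) * v * (x : G)⁻¹) * (s * x * s⁻¹) := by group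
      _ = (x : G)⁻¹ * ((s * x * s⁻¹) * v * (s * x * s⁻¹)⁻¹) * (s * x * s⁻¹) := by rw [h1]
      _ = _ := by group
  intro x hx v hv
  exact (mem_centralizer_iff.1
    (mem_subgroupOf.1 (htop ▸ mem_top (⟨x, hx⟩ : ↥(coreAt (c ^ l))) : _ ∈ N)) v hv).symm

theorem card_pow_eq_one_le {A : Subgroup G} (hA : IsCyclic ↥A) {n : ℕ} (hn : 0 < n) :
    Nat.card {a : ↥A // a ^ n = 1} ≤ n := by
  classical
  haveI := hA
  haveI := Fintype.ofFinite ↥A
  rw [Nat.card_eq_fintype_card, Fintype.card_subtype]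
  exact IsCyclic.card_pow_eq_one_le hn

/-- The elements of order `r` of `C_F(e)`: `v = f k` with `f ∈ E`, `k ∈ T` of exponent `r`. -/
theorem split_exponent (hM : MixedData S l c s L) {r : ℕ} {e v : G}
    (he : e ∈ fixPart (c ^ l) s) (he1 : e ≠ 1) (hv : v ∈ fitIn (coreAt (c ^ l)))
    (hvr : v ^ r = 1) (hve : Commute v e) :
    ∃ f ∈ fixPart (c ^ l) s, ∃ k ∈ torusPart (c ^ l) L,
      f ^ r = 1 ∧ k ^ r = 1 ∧ v = f * k := by
  obtain ⟨f, hf, k, hk, -, rfl⟩ := hM.fit_split v hv e he he1 hve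
  have hcomm : Commute f k := (hM.commute_fix k hk.2 f hf).symm
  rw [hcomm.mul_pow] at hvr
  have hfr : f ^ r = 1 := by
    have h1 : f ^ r = (k ^ r)⁻¹ := eq_inv_of_mul_eq_one_left hvr
    refine eq_one_of_inverted (a := s)
      (odd_orderOf_of_mem (odd_coreAt _) (pow_mem (fixPart_le_core _ _ hf) r)) ?_
      ((commute_s_of_fix hf).symm.pow_right r)
    rw [h1, ← inv_pow, ← conj_pow, hM.torus_inverted _ (inv_mem hk), inv_pow]
  exact ⟨f, hf, k, hk, hfr, by rwa [hfr, one_mul] at hvr, rfl⟩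

/-- At most `r²` elements of exponent `r` of `F` commute with an element of `E#`. -/
theorem card_commuting_le (hM : MixedData S l c s L) {r : ℕ} (hr : 0 < r) {e : G}
    (he : e ∈ fixPart (c ^ l) s) (he1 : e ≠ 1) {ι : Type u} (v : ι → G)
    (hinj : Function.Injective v)
    (hv : ∀ i, v i ∈ fitIn (coreAt (c ^ l)) ∧ v i ^ r = 1 ∧ Commute (v i) e) :
    Nat.card ι ≤ r ^ 2 := by
  choose f hf k hk hfr hkr hfk using fun i =>
    split_exponent hM he he1 (hv i).1 (hv i).2.1 (hv i).2.2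
  let φ : ι → {a : ↥(fixPart (c ^ l) s) // a ^ r = 1} × {a : ↥(torusPart (c ^ l) L) // a ^ r = 1} :=
    fun i => (⟨⟨f i, hf i⟩, Subtype.ext (hfr i)⟩, ⟨⟨k i, hk i⟩, Subtype.ext (hkr i)⟩)
  have hφ : Function.Injective φ := fun i j h => hinj (by
    have h1 : f i = f j := congrArg (fun p => ((p.1.1 : ↥(fixPart (c ^ l) s)) : G)) h
    have h2 : k i = k j := congrArg (fun p => ((p.2.1 : ↥(torusPart (c ^ l) L)) : G)) h
    rw [hfk, hfk, h1, h2])
  refine (Nat.card_le_card_of_injective φ hφ).trans ?_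
  rw [Nat.card_prod, sq]
  exact Nat.mul_le_mul (card_pow_eq_one_le hM.fix_cyclic hr)
    (card_pow_eq_one_le hM.torus_cyclic hr)

theorem pCoreIn_le_fitIn {r : ℕ} [Fact r.Prime] (A : Subgroup G) : pCoreIn r A ≤ fitIn A :=
  Subgroup.map_mono (Components.pCore_le_fitting r)

/-- Elements of prime order in a cyclic group generate each other. -/
theorem mem_zpowers_fix (hM : MixedData S l c s L) {r : ℕ} [Fact r.Prime] {y f : G}
    (hy : y ∈ fixPart (c ^ l) s) (hyo : orderOf y = r) (hf : f ∈ fixPart (c ^ l) s)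
    (hfo : orderOf f = r) : y ∈ zpowers f := by
  haveI := hM.fix_cyclic
  exact H74.CyclicAb.mem_zpowers_of_cyclic hf hy (by rw [hyo, hfo])

/-- A nontrivial element of `O_r(O)` fixed by `s` has a power of order `r` in `E`. -/
theorem exists_fix_power (t : G) {r : ℕ} [hr : Fact r.Prime] {w : G}
    (hw : w ∈ pCoreIn r (coreAt t)) (hws : Commute w s) (hw1 : w ≠ 1) :
    ∃ n : ℕ, orderOf (w ^ n) = r ∧ w ^ n ∈ fixPart t s := by
  obtain ⟨k, hk⟩ := IsPGroup.iff_orderOf.1
    (Components.isPGroup_pCoreIn (p := r) (coreAt t)) ⟨w, hw⟩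
  rw [Subgroup.orderOf_mk] at hk
  rcases k with _ | k
  · exact absurd (orderOf_eq_one_iff.1 (by simpa using hk)) hw1
  refine ⟨orderOf w / r, orderOf_pow_orderOf_div (orderOf_pos w).ne' (hk ▸ dvd_pow_self r (by omega)),
    pCoreIn_le_fitIn _ (pow_mem hw _), mem_centralizer_singleton_iff.2 (hws.pow_left _).eq⟩

/-- **`O_r(O)` has rank at most two.** -/
theorem rank_le_two (hM : MixedData S l c s L) (hc : ∀ o ∈ coreAt (c ^ l), Commute c o)
    (hcsL : c * s ∈ L) {r : ℕ} [hr : Fact r.Prime] :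
    Cfsg.PRankLE r 2 ↥(pCoreIn r (coreAt (c ^ l))) := by
  set O := coreAt (c ^ l) with hO
  set P := pCoreIn r O with hP
  have hPF : P ≤ fitIn O := pCoreIn_le_fitIn O
  have hPO : P ≤ O := pCoreAt_le _ _
  intro A hA hAr
  have hAr' : ∀ a : ↥A, ((a : ↥P) : G) ^ r = 1 := fun a =>
    congrArg Subtype.val (hAr _ a.2)
  have hinjA : Function.Injective fun a : ↥A => ((a : ↥P) : G) := fun a b h =>
    Subtype.ext (Subtype.ext h)
  have hsC : Commute s (c ^ l) := hM.cfg.gen.z_central hM.cfg.gen.mem_s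
  by_cases hfix : ∀ w ∈ P, Commute w s → w = 1
  · -- no fixed points: `P` commutes with an element of `E`
    obtain ⟨x, hx, hx1⟩ := (Subgroup.bot_or_exists_ne_one _).resolve_left hM.ne
    obtain ⟨p, hp, hdvd⟩ := Nat.exists_prime_and_dvd (fun h => hx1 (orderOf_eq_one_iff.1 h))
    haveI := Fact.mk hp
    have heo : orderOf (x ^ (orderOf x / p)) = p :=
      orderOf_pow_orderOf_div (orderOf_pos x).ne' hdvd
    set e := x ^ (orderOf x / p)
    have he : e ∈ fixPart (c ^ l) s := pow_mem hx _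
    have he1 : e ≠ 1 := fun h => hp.ne_one (by rw [← heo, h, orderOf_one])
    have hep : e ∈ pCoreIn p O :=
      mem_pCoreIn_of_fitIn he.1 (k := 1) (by rw [pow_one, ← heo, pow_orderOf_eq_one])
    have hpr : r ≠ p := fun h => he1 (hfix e (by rw [hP, h]; exact hep) (commute_s_of_fix he))
    exact card_commuting_le hM hr.out.pos he he1 _ hinjA fun a => ⟨hPF (a : ↥P).2, hAr' a,
      H77.GW.commute_cross hpr (a : ↥P).2 (hPO (a : ↥P).2) hep (pCoreAt_le _ _ hep)⟩
  push Not at hfix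
  obtain ⟨w, hw, hws, hw1⟩ := hfix
  obtain ⟨n, hyo, hy⟩ := exists_fix_power _ hw hws hw1
  set y := w ^ n
  have hyP : y ∈ P := pow_mem hw n
  have hy1 : y ≠ 1 := fun h => hr.out.ne_one (by rw [← hyo, h, orderOf_one])
  have hyr : y ^ r = 1 := by rw [← hyo, pow_orderOf_eq_one]
  by_cases hall : ∀ a : ↥A, Commute ((a : ↥P) : G) y
  · exact card_commuting_le hM hr.out.pos hy hy1 _ hinjA fun a => ⟨hPF (a : ↥P).2, hAr' a, hall a⟩
  push Not at hall
  obtain ⟨a₀, ha₀⟩ := hall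
  have hyc : (⟨y, hyP⟩ : ↥P) ∉ center ↥P := fun h =>
    ha₀ (congrArg Subtype.val (mem_center_iff.1 h (a₀ : ↥P)))
  -- `y ∈ Z₂(P)`
  set Z2 := Subgroup.upperCentralSeries ↥P 2 with hZ2
  set U := Z2.map P.subtype with hU
  have hUn : centralizer ({c ^ l} : Set G) ≤ normalizer (U : Set G) := by
    refine (centralizer_le_normalizer_pCoreAt (c ^ l) r).trans ?_
    intro g hg
    have key : ∀ h ∈ normalizer (P : Set G), ∀ v ∈ U, h * v * h⁻¹ ∈ U := by
      rintro h hh _ ⟨v, hv, rfl⟩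
      let φ : ↥P ≃* ↥P := normalizerMonoidHom (H := P) ⟨h, hh⟩
      refine ⟨φ v, ?_, rfl⟩
      have hchar : Z2.Characteristic := inferInstance
      exact (hchar.fixed φ).ge hv
    refine mem_normalizer_iff.2 fun v => ⟨key g hg v, fun hv => ?_⟩
    have := key g⁻¹ (inv_mem hg) _ hv
    simpa [mul_assoc] using this
  have hy2 : (⟨y, hyP⟩ : ↥P) ∈ Z2 := by
    by_cases hUf : ∀ v ∈ U, Commute s v → v = 1
    · exfalso
      have hcen := centralises_of_fpf hM hc hcsL hUn hUf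
      have h21 : Z2 ≤ center ↥P := fun v hv => mem_center_iff.2 fun x =>
        Subtype.ext (hcen x (hPO x.2) v ⟨v, hv, rfl⟩).eq
      have hstab : ∀ m, Subgroup.upperCentralSeries ↥P m ≤ center ↥P := by
        intro m
        induction m with
        | zero => simp
        | succ m ih =>
          intro v hv
          refine h21 (Subgroup.mem_upperCentralSeries_succ_iff.2 fun x => ?_)
          rw [Subgroup.upperCentralSeries_one]
          exact ih (Subgroup.mem_upperCentralSeries_succ_iff.1 hv x)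
      haveI : Group.IsNilpotent ↥P := (Components.isPGroup_pCoreIn (p := r) O).isNilpotent
      obtain ⟨m, hm⟩ := Group.IsNilpotent.nilpotent (G := ↥P)
      exact hyc (hstab m (hm ▸ mem_top _))
    push Not at hUf
    obtain ⟨v, hv, hvs, hv1⟩ := hUf
    have hvP : v ∈ P := map_subtype_le _ hv
    obtain ⟨n', hno, hnE⟩ := exists_fix_power _ hvP hvs.symm hv1
    obtain ⟨i, hi⟩ := mem_zpowers_iff.1 (mem_zpowers_fix hM hy hyo hnE hno)
    obtain ⟨v', hv', rfl⟩ := hv
    have : (⟨y, hyP⟩ : ↥P) = (v' ^ n') ^ i := Subtype.ext (by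
      rw [SubgroupClass.coe_zpow, SubgroupClass.coe_pow]; exact hi.symm)
    rw [this]
    exact zpow_mem (pow_mem hv' n') i
  have hcomm : ∀ a : ↥P, ⁅(⟨y, hyP⟩ : ↥P), a⁆ ∈ center ↥P := fun a => by
    rw [← Subgroup.upperCentralSeries_one]
    exact Subgroup.mem_upperCentralSeries_succ_iff.1 hy2 a
  -- central elements of exponent `r` lie in `T`
  have hcentT : ∀ z : ↥P, z ∈ center ↥P → z ^ r = 1 → (z : G) ∈ torusPart (c ^ l) L := by
    intro z hz hzr
    have hzr' : (z : G) ^ r = 1 := congrArg Subtype.val hzr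
    have hzy : Commute (z : G) y :=
      (congrArg Subtype.val (mem_center_iff.1 hz ⟨y, hyP⟩)).symm
    obtain ⟨f, hf, k, hk, hfr, -, hzfk⟩ := split_exponent hM hy hy1 (hPF z.2) hzr' hzy
    by_cases hf1 : f = 1
    · rw [hzfk, hf1, one_mul]; exact hk
    exfalso
    have hfo : orderOf f = r := orderOf_eq_prime hfr hf1
    have hfP : f ∈ P := mem_pCoreIn_of_fitIn hf.1 (k := 1) (by rw [pow_one, hfr])
    have hsP : s ∈ normalizer (P : Set G) :=
      centralizer_le_normalizer_pCoreAt _ r (mem_centralizer_singleton_iff.2 hsC.eq)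
    have hff : s * (z : G) * s⁻¹ * z = f * f := by
      have hfs : s * f * s⁻¹ = f := by rw [← (commute_s_of_fix hf).eq, mul_inv_cancel_right]
      have hcomm : Commute k f := hM.commute_fix k hk.2 f hf
      rw [hzfk]
      calc s * (f * k) * s⁻¹ * (f * k) = (s * f * s⁻¹) * (s * k * s⁻¹) * (f * k) := by group
        _ = f * (k⁻¹ * f) * k := by rw [hfs, hM.torus_inverted k hk]; group
        _ = f * f := by rw [hcomm.inv_left.eq]; group
    have hfc : ∀ x ∈ P, Commute f x := fun x hx => by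
      refine commute_of_sq (odd_orderOf_of_mem (odd_coreAt _) (hPO hfP)) ?_
      rw [← hff]
      have hzx : ∀ x' ∈ P, Commute (z : G) x' := fun x' hx' =>
        (congrArg Subtype.val (mem_center_iff.1 hz ⟨x', hx'⟩)).symm
      refine Commute.mul_left ?_ (hzx x hx)
      have h1 := (hzx _ (Coprime.conj_mem' hsP hx)).map (MulAut.conj s).toMonoidHom
      simp only [MulEquiv.coe_toMonoidHom, MulAut.conj_apply] at h1
      rwa [show s * (s⁻¹ * x * s) * s⁻¹ = x by group] at h1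
    obtain ⟨i, hi⟩ := mem_zpowers_iff.1 (mem_zpowers_fix hM hy hyo hf hfo)
    exact ha₀ (hi ▸ ((hfc _ (a₀ : ↥P).2).zpow_left i).symm)
  let ψ : ↥A →* ↥P := MonoidHom.mk' (fun a => ⁅(⟨y, hyP⟩ : ↥P), (a : ↥P)⁆) fun a b => by
    have hz := mem_center_iff.1 (hcomm (b : ↥P)) (a : ↥P)
    calc ⁅(⟨y, hyP⟩ : ↥P), ((a * b : ↥A) : ↥P)⁆
        = ⁅(⟨y, hyP⟩ : ↥P), (a : ↥P)⁆ *
          ((a : ↥P) * ⁅(⟨y, hyP⟩ : ↥P), (b : ↥P)⁆ * (a : ↥P)⁻¹) := by
          rw [commutatorElement_def, commutatorElement_def, commutatorElement_def, Subgroup.coe_mul]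
          group
      _ = _ := by rw [hz, mul_inv_cancel_right]
  have hker : Nat.card ↥ψ.ker * r ≤ r ^ 2 := by
    have hkc : ∀ a : ↥ψ.ker, Commute (((a : ↥A) : ↥P) : G) y := fun a =>
      (congrArg Subtype.val (commutatorElement_eq_one_iff_mul_comm.1 a.2)).symm
    have hdisj : ∀ a : ↥A, ((a : ↥P) : G) ∈ zpowers y → ((a : ↥P) : G) = 1 := by
      intro a ha
      by_contra ha1
      have hao : orderOf ((a : ↥P) : G) = r := orderOf_eq_prime (hAr' a) ha1
      have hya : y ∈ zpowers ((a : ↥P) : G) :=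
        mem_zpowers_fix hM hy hyo (zpowers_le.2 hy ha) hao
      obtain ⟨i, hi⟩ := mem_zpowers_iff.1 hya
      refine ha₀ ?_
      rw [← hi]
      exact (show Commute ((a₀ : ↥P) : G) ((a : ↥P) : G) from
        congrArg (fun v : ↥A => ((v : ↥P) : G)) (hA.is_comm.comm a₀ a)).zpow_right i
    have h2 := card_commuting_le hM hr.out.pos hy hy1 (ι := ↥ψ.ker × ↥(zpowers y))
      (fun p => (((p.1 : ↥A) : ↥P) : G) * (p.2 : G)) ?_ fun p => ⟨?_, ?_, ?_⟩
    · rwa [Nat.card_prod, Nat.card_zpowers, hyo] at h2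
    · rintro ⟨a, i⟩ ⟨b, j⟩ hab
      replace hab : (((a : ↥A) : ↥P) : G) * (i : G) = (((b : ↥A) : ↥P) : G) * (j : G) := hab
      have h1 : ((((b⁻¹ * a : ↥ψ.ker) : ↥A) : ↥P) : G) = (j : G) * (i : G)⁻¹ := by
        show (((b : ↥A) : ↥P) : G)⁻¹ * (((a : ↥A) : ↥P) : G) = _
        rw [eq_mul_inv_iff_mul_eq, mul_assoc, hab, inv_mul_cancel_left]
      have h2 := hdisj _ (h1 ▸ mul_mem j.2 (inv_mem i.2))
      have hba : b = a := inv_mul_eq_one.1 (Subtype.ext (Subtype.ext (Subtype.ext h2)))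
      subst hba
      exact Prod.ext rfl (Subtype.ext (mul_left_cancel hab))
    · exact mul_mem (hPF ((p.1 : ↥A) : ↥P).2) (zpowers_le.2 (hPF hyP) p.2.2)
    · obtain ⟨i, hi⟩ := mem_zpowers_iff.1 p.2.2
      show ((((p.1 : ↥A) : ↥P) : G) * (p.2 : G)) ^ r = 1
      rw [← hi, ((hkc p.1).zpow_right i).mul_pow, hAr', one_mul, ← zpow_natCast, ← zpow_mul,
        mul_comm, zpow_mul, zpow_natCast, hyr, one_zpow]
    · obtain ⟨i, hi⟩ := mem_zpowers_iff.1 p.2.2
      refine (hkc p.1).mul_left ?_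
      rw [← hi]
      exact (Commute.refl y).zpow_left i
  have hran : Nat.card ↥ψ.range ≤ r := by
    refine le_trans (Nat.card_le_card_of_injective (β := {a : ↥(torusPart (c ^ l) L) // a ^ r = 1})
      (fun z => ⟨⟨((z : ↥P) : G), ?_⟩, ?_⟩) ?_) (card_pow_eq_one_le hM.torus_cyclic hr.out.pos)
    · obtain ⟨a, ha⟩ := z.2
      refine hcentT _ (ha ▸ hcomm _) ?_
      rw [← ha, ← map_pow, show a ^ r = 1 from Subtype.ext (hAr _ a.2), map_one]
    · obtain ⟨a, ha⟩ := z.2
      refine Subtype.ext ?_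
      show ((z : ↥P) : G) ^ r = 1
      rw [← SubgroupClass.coe_pow, ← ha, ← map_pow, show a ^ r = 1 from Subtype.ext (hAr _ a.2),
        map_one, OneMemClass.coe_one]
    · intro z z' h
      exact Subtype.ext (Subtype.ext (congrArg (fun q => ((q.1 : ↥(torusPart (c ^ l) L)) : G)) h))
  have hcard : Nat.card ↥A = Nat.card ↥ψ.ker * Nat.card ↥ψ.range := by
    rw [Subgroup.card_eq_card_quotient_mul_card_subgroup ψ.ker,
      Nat.card_congr (QuotientGroup.quotientKerEquivRange ψ).toEquiv, mul_comm]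
  rw [hcard]
  exact (Nat.mul_le_mul_left _ hran).trans hker

/-- The derived group of `O` lies in `F(O)` when all `O_r(O)` have rank at most two. -/
theorem commutator_le_fitting {O : Type u} [Group O] [Finite O] [Group.IsSolvable O]
    (hr : ∀ r : ℕ, r.Prime → ∀ g ∈ _root_.commutator O, (orderOf g).Coprime r →
      ∀ w ∈ Cfsg.pCore r O, Commute g w) :
    _root_.commutator O ≤ Cfsg.fittingSubgroup O := by
  intro g hg
  refine H75.mem_of_primePower_parts _ g fun d hd ⟨r, k, hrp, hdo⟩ => ?_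
  haveI := Fact.mk hrp
  let V : Set O := {w | ∃ p : ℕ, p.Prime ∧ p ≠ r ∧ w ∈ Cfsg.pCore p O}
  let M : Subgroup O := _root_.commutator O ⊓ centralizer V
  have hV : ∀ (a : O), ∀ w ∈ V, a * w * a⁻¹ ∈ V := fun a w ⟨p, hp, hpr, hw⟩ =>
    ⟨p, hp, hpr, (inferInstance : (Cfsg.pCore p O).Normal).conj_mem w hw a⟩
  have hMn : M.Normal := by
    refine ⟨fun n hn a => ⟨(inferInstance : (_root_.commutator O).Normal).conj_mem n hn.1 a,
      mem_centralizer_iff.2 fun w hw => ?_⟩⟩
    have h1 : Commute (a⁻¹ * w * a) n := by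
      have := mem_centralizer_iff.1 hn.2 _ (hV a⁻¹ w hw)
      rwa [inv_inv] at this
    have h2 := h1.map (MulAut.conj a).toMonoidHom
    simp only [MulEquiv.coe_toMonoidHom, MulAut.conj_apply] at h2
    rwa [show a * (a⁻¹ * w * a) * a⁻¹ = w by group] at h2
  have hdM : d ∈ M := by
    refine ⟨zpowers_le.2 hg hd, mem_centralizer_iff.2 fun w ⟨p, hp, hpr, hw⟩ => ?_⟩
    refine (hr p hp d (zpowers_le.2 hg hd) ?_ w hw).eq.symm
    rw [hdo]
    exact ((Nat.coprime_primes hrp hp).2 (Ne.symm hpr)).pow_left k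
  -- elements of `M` of order prime to `r` are central in `M`
  have hcent : ∀ x : ↥M, (orderOf x).Coprime r → x ∈ center ↥M := by
    intro x hx
    rw [← Subgroup.orderOf_coe] at hx
    have hxF : (x : O) ∈ Cfsg.fittingSubgroup O := by
      refine Cores.centralizer_fittingSubgroup_le (mem_centralizer_iff.2 fun w hw => ?_)
      have hle : Cfsg.fittingSubgroup O ≤ centralizer {(x : O)} := by
        rw [Components.fitting_eq_iSup_pCore]
        refine iSup_le fun p => fun w hw => mem_centralizer_singleton_iff.2 ?_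
        by_cases hpr : (p : ℕ) = r
        · exact (hr r hrp _ x.2.1 hx w (hpr ▸ hw)).eq.symm
        · exact mem_centralizer_iff.1 x.2.2 w
            ⟨p, Nat.prime_of_mem_primeFactors p.2, hpr, hw⟩
      exact mem_centralizer_singleton_iff.1 (hle hw)
    refine mem_center_iff.2 fun m => Subtype.ext ?_
    have hxc : (x : O) ∈ centralizer {(m : O)} := by
      refine H75.mem_of_primePower_parts _ _ fun y hy ⟨q, j, hq, hyo⟩ => ?_
      haveI := Fact.mk hq
      refine mem_centralizer_singleton_iff.2 ?_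
      by_cases hy1 : y = 1
      · rw [hy1, one_mul, mul_one]
      have hqr : q ≠ r := fun h => hy1 (orderOf_eq_one_iff.1
        (Nat.eq_one_of_dvd_coprimes (hx.pow_right j)
          (orderOf_dvd_of_mem_zpowers hy) (by rw [hyo, h])))
      have hyq : IsPGroup q ↥(zpowers y) := IsPGroup.of_card (by rw [Nat.card_zpowers, hyo])
      exact mem_centralizer_iff.1 m.2.2 y ⟨q, hq, hqr,
        Components.le_pCore_of_le_fitting hyq
          (zpowers_le.2 (zpowers_le.2 hxF hy)) (mem_zpowers y)⟩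
    exact (mem_centralizer_singleton_iff.1 hxc).symm
  have hq : IsPGroup r (↥M ⧸ center ↥M) := by
    intro q
    obtain ⟨x, rfl⟩ := QuotientGroup.mk'_surjective _ q
    obtain ⟨j, hj⟩ := Fusion.exists_pow_coprime (p := r) x
    refine ⟨j, ?_⟩
    rw [← map_pow]
    exact (QuotientGroup.eq_one_iff _).mpr (hcent _ hj)
  haveI := hq.isNilpotent
  have hnil : Group.IsNilpotent ↥M :=
    Subgroup.isNilpotent_of_ker_le_center (QuotientGroup.mk' (center ↥M))
      (by rw [QuotientGroup.ker_mk'])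
  exact Cores.le_fittingSubgroup (hN := hMn) hnil hdM

/-- **`D = E`.** -/
theorem pairCore_eq_fixPart (hM : MixedData S l c s L)
    (hc : ∀ o ∈ coreAt (c ^ l), Commute c o) (hcsL : c * s ∈ L) :
    pairCore (c ^ l) s = fixPart (c ^ l) s := by
  refine le_antisymm (fun d hd => ⟨?_, hd.2⟩) (fixPart_le_pairCore _ _)
  haveI := isSolvable_coreAt (c ^ l)
  refine ⟨⟨d, hd.1⟩, ?_, rfl⟩
  refine commutator_le_fitting (fun r hrp g hg hgr w hw => ?_)
    (pairCore_le_commutator hM hc hcsL (d := ⟨d, hd.1⟩) (mem_centralizer_singleton_iff.1 hd.2))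
  haveI := Fact.mk hrp
  by_cases hr2 : r = 2
  · have h1 : (w : G) ∈ pCoreIn r (coreAt (c ^ l)) := ⟨w, hw, rfl⟩
    rw [hr2, pCoreIn_two_eq_bot, mem_bot] at h1
    rw [show w = 1 from Subtype.ext h1]
    exact Commute.one_right g
  have hg' : (g : G) ∈ ⁅coreAt (c ^ l), coreAt (c ^ l)⁆ := by
    rw [← map_subtype_commutator]; exact ⟨g, hg, rfl⟩
  obtain ⟨k, hk⟩ := OddOrder.BG4.exists_pow_mem_centralizer_of_rank_two hr2
    (Components.isPGroup_pCoreIn (coreAt (c ^ l))) (rank_le_two hM hc hcsL)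
    ((coreAt_le _).trans (centralizer_le_normalizer_pCoreAt _ r))
    (isSolvable_coreAt _) (odd_coreAt _) hg'
  have h1 : Commute ((g : G) ^ r ^ k) (w : G) :=
    (mem_centralizer_iff.1 hk (w : G) ⟨w, hw, rfl⟩).symm
  obtain ⟨m, hm⟩ := exists_pow_eq_self_of_coprime
    (Nat.Coprime.pow_left k (Nat.coprime_comm.1 hgr))
  refine Subtype.ext ?_
  show (g : G) * (w : G) = (w : G) * (g : G)
  rw [← hm]
  simpa using (h1.pow_left m).eq

end Cfsg.Agent.H35.GW
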