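import Cfsg.Agent.H24.KleinFourOrder
import Cfsg.Agent.S0948
import Cfsg.Agent.BlockBasic.Local

/-!
# The numerical form of the order formula for a Klein four Sylow `2`-subgroup

With one class of involutions the order is `α · 8 c(J) ^ 3 / c(P) ^ 2` where `3/8 ≤ α ≤ 15/8`.
-/

set_option autoImplicit false
set_option linter.style.haveILetI false

namespace Cfsg.Agent.H35.GW

open Cfsg.Agent.BlockBasic Cfsg.Agent.CharBasic

universe u

theorem klein_bound_plus {y z : ℕ} (hy : 1 ≤ y) (hz : 1 ≤ z) :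
    3 * ((y + 1) * (z + 1) * (y + z)) ≤ 8 * (y * z * (y + z + 1)) ∧
      8 * (y * z * (y + z + 1)) ≤ 15 * ((y + 1) * (z + 1) * (y + z)) := by
  have h1 : y + z ≤ y * z + 1 := by nlinarith
  have h2 : (y + z) * (y + z) ≤ (y * z + 1) * (y + z) := Nat.mul_le_mul_right _ h1
  have h3 : 1 ≤ y * z := by nlinarith
  have h4 : y + z ≤ y * z * (y + z) := Nat.le_mul_of_pos_left _ h3
  constructor <;> nlinarith [sq_nonneg ((y : ℤ) - z)]

theorem klein_bound_minus {y z : ℕ} (hy : 3 ≤ y) (hz : 3 ≤ z) :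
    3 * ((y + z) * (y - 1) * (z - 1)) ≤ 8 * ((y + z - 1) * y * z) ∧
      8 * ((y + z - 1) * y * z) ≤ 15 * ((y + z) * (y - 1) * (z - 1)) := by
  obtain ⟨a, rfl⟩ : ∃ a, y = a + 3 := ⟨y - 3, by omega⟩
  obtain ⟨b, rfl⟩ : ∃ b, z = b + 3 := ⟨z - 3, by omega⟩
  rw [show a + 3 + (b + 3) - 1 = a + b + 5 by omega, show a + 3 - 1 = a + 2 by omega,
    show b + 3 - 1 = b + 2 by omega]
  constructor <;> nlinarith [Nat.zero_le (a * b * (a + b)), Nat.zero_le ((a + b) * (a + b)),
    Nat.zero_le (a * b), Nat.zero_le (a + b)]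

variable {G : Type u} [Group G] [Finite G]

/-- One class of involutions and a Klein four Sylow `2`-subgroup: no normal `2`-complement. -/
theorem no_complement_of_one_class (P : Sylow 2 G) (h4 : Nat.card (P : Subgroup G) = 4)
    (hexp : ∀ x ∈ (P : Subgroup G), x * x = 1)
    (hone : ∀ a b : G, orderOf a = 2 → orderOf b = 2 → IsConj a b) (N : Subgroup G) (hN : N.Normal)
    (hodd : Odd (Nat.card N)) (hidx : N.index = 4) : False := by
  classical
  have h2 : ∀ x ∈ (P : Subgroup G), x ∈ N → x = 1 := by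
    intro x hx hxN
    have hd : orderOf x ∣ Nat.card N := N.orderOf_dvd_natCard hxN
    have hd2 : orderOf x ∣ 2 := orderOf_dvd_of_pow_eq_one (by rw [pow_two]; exact hexp x hx)
    exact orderOf_eq_one_iff.1 (Nat.eq_one_of_dvd_coprimes hodd.coprime_two_left hd2 hd)
  haveI : Nontrivial (P : Subgroup G) :=
    Finite.one_lt_card_iff_nontrivial.1 (by rw [h4]; norm_num)
  obtain ⟨⟨a, haP⟩, ha⟩ := exists_ne (1 : (P : Subgroup G))
  have ha1 : a ≠ 1 := fun h => ha (Subtype.ext h)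
  obtain ⟨b, hbP, hb1, hba⟩ : ∃ b ∈ (P : Subgroup G), b ≠ 1 ∧ b ≠ a := by
    by_contra hno
    push Not at hno
    have hsub : ((P : Subgroup G) : Set G) ⊆ {1, a} := fun g hg => by
      simp only [Set.mem_insert_iff, Set.mem_singleton_iff]
      exact or_iff_not_imp_left.2 (hno g hg)
    have h3 := Set.ncard_le_ncard hsub (Set.toFinite _)
    rw [← Nat.card_coe_set_eq] at h3
    have h5 : ({1, a} : Set G).ncard ≤ 2 := (Set.ncard_insert_le _ _).trans (by simp)
    have h6 : Nat.card ((P : Subgroup G) : Set G) = 4 := h4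
    omega
  have ho : ∀ x ∈ (P : Subgroup G), x ≠ 1 → orderOf x = 2 := fun x hx h1 =>
    orderOf_eq_prime (by rw [pow_two]; exact hexp x hx) h1
  obtain ⟨c, hc⟩ := isConj_iff.1 (hone a b (ho a haP ha1) (ho b hbP hb1))
  have hsurj : ∀ g : G, ∃ p ∈ (P : Subgroup G), (p : G ⧸ N) = (g : G ⧸ N) := by
    have hbij : Function.Bijective fun p : (P : Subgroup G) => ((p : G) : G ⧸ N) := by
      refine (Nat.bijective_iff_injective_and_card _).2 ⟨fun p q h => ?_, ?_⟩
      · have h1 : (p : G)⁻¹ * q ∈ N := QuotientGroup.eq.1 h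
        exact Subtype.ext (inv_mul_eq_one.1 (h2 _ (mul_mem (inv_mem p.2) q.2) h1))
      · exact h4.trans hidx.symm
    intro g
    obtain ⟨p, hp⟩ := hbij.2 (g : G ⧸ N)
    exact ⟨p, p.2, hp⟩
  haveI := hN
  obtain ⟨p, hp, hpc⟩ := hsurj c
  have hcomm : p * a * p⁻¹ = a := by
    have hpa : p * a = a * p := by
      have hi : ∀ x ∈ (P : Subgroup G), x⁻¹ = x := fun x hx =>
        inv_eq_of_mul_eq_one_right (hexp x hx)
      rw [← hi (p * a) (mul_mem hp haP), mul_inv_rev, hi a haP, hi p hp]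
    rw [hpa, mul_inv_cancel_right]
  have h7 : ((b : G) : G ⧸ N) = (a : G ⧸ N) := by
    rw [← hc, QuotientGroup.mk_mul, QuotientGroup.mk_mul, QuotientGroup.mk_inv, ← hpc,
      ← QuotientGroup.mk_mul, ← QuotientGroup.mk_inv, ← QuotientGroup.mk_mul, hcomm]
  exact hba (inv_mul_eq_one.1 (h2 _ (mul_mem (inv_mem hbP) haP) (QuotientGroup.eq.1 h7)))

/-- **The order formula in numerical form.** -/
theorem klein_card_bounds (P : Sylow 2 G) (h4 : Nat.card (P : Subgroup G) = 4)
    (hexp : ∀ x ∈ (P : Subgroup G), x * x = 1)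
    (hone : ∀ a b : G, orderOf a = 2 → orderOf b = 2 → IsConj a b) {J : G}
    (hJ : J ∈ (P : Subgroup G)) (hJ2 : orderOf J = 2) :
    3 * Nat.card (Subgroup.centralizer ({J} : Set G)) ^ 3 ≤
        Nat.card G * Nat.card (Subgroup.centralizer ((P : Subgroup G) : Set G)) ^ 2 ∧
      Nat.card G * Nat.card (Subgroup.centralizer ((P : Subgroup G) : Set G)) ^ 2 ≤
        15 * Nat.card (Subgroup.centralizer ({J} : Set G)) ^ 3 := by
  classical
  cases nonempty_fintype G
  haveI : Fact (Nat.Prime 2) := ⟨Nat.prime_two⟩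
  obtain ⟨M, hM⟩ := exists_isPModular (p := 2) Nat.prime_two
  haveI : Nontrivial (P : Subgroup G) :=
    Finite.one_lt_card_iff_nontrivial.1 (by rw [h4]; norm_num)
  have hK : IsKleinFour (P : Subgroup G) :=
    ⟨h4, (Monoid.exponent_eq_prime_iff Nat.prime_two).2 fun x hx => orderOf_eq_prime
      (Subtype.ext (by rw [pow_two]; exact hexp x x.2)) hx⟩
  obtain ⟨ζ₂, ζ₃, ζ₄, ε, hε, h21, h31, h23, h24, h34, hB, hz, hc2, hc3, hc4, -⟩ :=
    S0948.result M hM P hK hone
  obtain ⟨v2, v3, v4⟩ := hz J hJ2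
  have h41 : (ζ₄ : G → ℂ) ≠ fun _ => 1 := fun h => by rw [h] at v4; norm_num at v4
  obtain ⟨g₀, hg₀⟩ : 4 ∣ Nat.card G := h4 ▸ (P : Subgroup G).card_subgroup_dvd_card
  have hodd : Odd g₀ := Nat.not_even_iff_odd.1 fun ⟨k, hk⟩ => P.not_dvd_index (by
    have h := (P : Subgroup G).card_mul_index
    rw [h4, hg₀] at h
    exact ⟨k, by omega⟩)
  have hnc : ¬ ∃ N : Subgroup G, N.Normal ∧ Nat.card N = g₀ := by
    rintro ⟨N, hN, hNc⟩
    refine no_complement_of_one_class P h4 hexp hone N hN (hNc ▸ hodd) ?_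
    have h := N.card_mul_index
    rw [hNc, hg₀, mul_comm 4 g₀] at h
    exact Nat.eq_of_mul_eq_mul_left hodd.pos h
  obtain ⟨N, hN0, hN, hrel, hkey⟩ := H24.KleinBlock.klein_int hM g₀ hodd hg₀ hnc P J hJ hJ2
    ζ₂ ζ₃ ζ₄ 1 ε (-1) hB ⟨h21, h31, h41, h23, h24, h34⟩ ⟨Or.inl rfl, hε, Or.inr rfl⟩
    ⟨by rw [v2, Int.cast_one], v3, by rw [v4]; norm_num⟩
  set cP := Nat.card (Subgroup.centralizer ((P : Subgroup G) : Set G))
  set i := (Subgroup.centralizer ({J} : Set G)).index
  have hidx : i * (N * cP) = Nat.card G := by rw [← hN]; exact Subgroup.index_mul_card _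
  have hbd : 3 * N ^ 2 ≤ i ∧ i ≤ 15 * N ^ 2 := by
    have p2 := charDegree_pos ζ₂
    have p3 := charDegree_pos ζ₃
    have p4 := charDegree_pos ζ₄
    rcases hε with rfl | rfl
    · generalize charDegree (ζ₂ : G → ℂ) = x at *
      generalize charDegree (ζ₃ : G → ℂ) = y at *
      generalize charDegree (ζ₄ : G → ℂ) = z at *
      obtain rfl : z = x + y + 1 := by omega
      obtain ⟨b1, b2⟩ := klein_bound_plus p2 p3
      have hk : i * ((x + 1) * (y + 1) * (x + y)) = 8 * N ^ 2 * (x * y * (x + y + 1)) := by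
        have hk' : ((i * ((x + 1) * (y + 1) * (x + y)) : ℕ) : ℤ) =
            ((8 * N ^ 2 * (x * y * (x + y + 1)) : ℕ) : ℤ) := by
          push_cast at hkey ⊢
          linear_combination hkey
        exact_mod_cast hk'
      have hpos : 0 < (x + 1) * (y + 1) * (x + y) := by positivity
      constructor <;> refine Nat.le_of_mul_le_mul_right ?_ hpos <;> rw [hk]
      · nlinarith [Nat.mul_le_mul_left (N ^ 2) b1]
      · nlinarith [Nat.mul_le_mul_left (N ^ 2) b2]
    · generalize charDegree (ζ₂ : G → ℂ) = x at *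
      generalize charDegree (ζ₃ : G → ℂ) = y at *
      generalize charDegree (ζ₄ : G → ℂ) = z at *
      have hy3 : 3 ≤ y := by omega
      have hz3 : 3 ≤ z := by omega
      obtain rfl : x = y + z - 1 := by omega
      obtain ⟨b1, b2⟩ := klein_bound_minus hy3 hz3
      have hk : i * ((y + z) * (y - 1) * (z - 1)) = 8 * N ^ 2 * ((y + z - 1) * y * z) := by
        have hk' : ((i * ((y + z) * (y - 1) * (z - 1)) : ℕ) : ℤ) =
            ((8 * N ^ 2 * ((y + z - 1) * y * z) : ℕ) : ℤ) := by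
          have e1 : ((y - 1 : ℕ) : ℤ) = (y : ℤ) - 1 := by omega
          have e2 : ((z - 1 : ℕ) : ℤ) = (z : ℤ) - 1 := by omega
          have e3 : ((y + z - 1 : ℕ) : ℤ) = (y : ℤ) + z - 1 := by omega
          push_cast
          rw [e1, e2, e3]
          rw [e3] at hkey
          linear_combination hkey
        exact_mod_cast hk'
      have hpos : 0 < (y + z) * (y - 1) * (z - 1) :=
        Nat.mul_pos (Nat.mul_pos (by omega) (by omega)) (by omega)
      constructor <;> refine Nat.le_of_mul_le_mul_right ?_ hpos <;> rw [hk]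
      · nlinarith [Nat.mul_le_mul_left (N ^ 2) b1]
      · nlinarith [Nat.mul_le_mul_left (N ^ 2) b2]
  rw [hN, ← hidx]
  constructor
  · calc 3 * (N * cP) ^ 3 = 3 * N ^ 2 * (N * cP ^ 3) := by ring
      _ ≤ i * (N * cP ^ 3) := Nat.mul_le_mul_right _ hbd.1
      _ = _ := by ring
  · calc i * (N * cP) * cP ^ 2 = i * (N * cP ^ 3) := by ring
      _ ≤ 15 * N ^ 2 * (N * cP ^ 3) := Nat.mul_le_mul_right _ hbd.2
      _ = _ := by ring

end Cfsg.Agent.H35.GW
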