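import Cfsg.Agent.H35.GW.Numeric
import Cfsg.Agent.H35.GW.NumericKlein

/-!
# Subgroups with one class of involutions over the centraliser of an involution

The order formula pins the order of a group with dihedral Sylow `2`-subgroup and one class of
involutions by centraliser orders, so such a subgroup containing the centraliser of an
involution has index at most `2` (at most `5` when the Sylow `2`-subgroup is a four group).
-/

set_option autoImplicit false
set_option linter.style.haveILetI false
set_option linter.unusedSectionVars false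

namespace Cfsg.Agent.H35.GW

open Cfsg.Agent.H39

universe u

variable {G : Type u} [Group G] [Finite G]

theorem card_centralizer_coe (K : Subgroup G) (s : Set K)
    (h : Subgroup.centralizer ((fun k : K => (k : G)) '' s) ≤ K) :
    Nat.card (Subgroup.centralizer s) =
      Nat.card (Subgroup.centralizer ((fun k : K => (k : G)) '' s)) := by
  rw [← Subgroup.card_map_of_injective K.subtype_injective]
  congr 1
  congr 1
  ext g
  constructor
  · rintro ⟨k, hk, rfl⟩
    rw [Subgroup.mem_centralizer_iff]
    rintro _ ⟨j, hj, rfl⟩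
    exact congrArg Subtype.val (Subgroup.mem_centralizer_iff.1 hk j hj)
  · intro hg
    exact ⟨⟨g, h hg⟩, Subgroup.mem_centralizer_iff.2 fun j hj =>
      Subtype.ext (Subgroup.mem_centralizer_iff.1 hg j ⟨j, hj, rfl⟩), rfl⟩

theorem centralizer_singleton_coe (K : Subgroup G) (a : K)
    (h : Subgroup.centralizer ({(a : G)} : Set G) ≤ K) :
    Nat.card (Subgroup.centralizer ({a} : Set K)) =
      Nat.card (Subgroup.centralizer ({(a : G)} : Set G)) := by
  have h1 : (fun k : K => (k : G)) '' {a} = {(a : G)} := Set.image_singleton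
  rw [card_centralizer_coe K {a} (h1.symm ▸ h), h1]

theorem centralizer_pair_coe (K : Subgroup G) (a b : K)
    (h : Subgroup.centralizer ({(a : G)} : Set G) ≤ K) :
    Nat.card (Subgroup.centralizer ({a, b} : Set K)) =
      Nat.card (Subgroup.centralizer ({(a : G), (b : G)} : Set G)) := by
  have h1 : (fun k : K => (k : G)) '' {a, b} = {(a : G), (b : G)} := Set.image_pair _ _ _
  have h2 : Subgroup.centralizer ({(a : G), (b : G)} : Set G) ≤ K :=
    (Subgroup.centralizer_le (Set.singleton_subset_iff.2 (Set.mem_insert _ _))).trans h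
  rw [card_centralizer_coe K {a, b} (h1.symm ▸ h2), h1]

/-- A subgroup with one class of involutions over the centraliser of a central involution of a
dihedral Sylow `2`-subgroup of order at least `8` has index at most `2`. -/
theorem index_le_two {P : Sylow 2 G} {h : ℕ} {σ τ : G} (hD : DGen (P : Subgroup G) h σ τ)
    (hh : 2 ≤ h) (hone : ∀ a b : G, orderOf a = 2 → orderOf b = 2 → IsConj a b) (K : Subgroup G)
    (hCK : Subgroup.centralizer ({σ ^ h} : Set G) ≤ K)
    (honeK : ∀ a b : K, orderOf a = 2 → orderOf b = 2 → IsConj a b) : K.index ≤ 2 := by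
  haveI : Fact (Nat.Prime 2) := ⟨Nat.prime_two⟩
  have hPK : (P : Subgroup G) ≤ K := fun g hg =>
    hCK (Subgroup.mem_centralizer_singleton_iff.2 (hD.z_central hg))
  set σ' : K := ⟨σ, hPK hD.mem_c⟩
  set τ' : K := ⟨τ, hPK hD.mem_s⟩
  have hcoe : (((P.subtype hPK : Sylow 2 K)) : Subgroup K) = (P : Subgroup G).subgroupOf K :=
    Sylow.coe_subtype _ _
  have hmem : ∀ (x : K) (i : ℤ), x = σ' ^ i ↔ (x : G) = σ ^ i := fun x i => by
    rw [Subtype.ext_iff, Subgroup.coe_zpow]
  have hz : ∀ x : K, x ∈ Subgroup.zpowers σ' ↔ (x : G) ∈ Subgroup.zpowers σ := fun x => by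
    simp only [Subgroup.mem_zpowers_iff]
    exact exists_congr fun i => ⟨fun e => ((hmem x i).1 e.symm).symm,
      fun e => ((hmem x i).2 e.symm).symm⟩
  have hD' : DGen ((P.subtype hPK : Sylow 2 K) : Subgroup K) h σ' τ' :=
    { lpos := hD.lpos
      mem_c := by rw [hcoe]; exact hD.mem_c
      mem_s := by rw [hcoe]; exact hD.mem_s
      oc := by rw [← Subgroup.orderOf_coe]; exact hD.oc
      os := by rw [← Subgroup.orderOf_coe]; exact hD.os
      inv := Subtype.ext hD.inv
      out := fun h1 => hD.out ((hz τ').1 h1)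
      cases := fun g hg => by
        rw [hcoe] at hg
        rw [hz, hz]
        exact hD.cases g hg }
  obtain ⟨hGlo, hGhi⟩ := card_bounds hD hh hone
  obtain ⟨hKlo, -⟩ := card_bounds hD' hh honeK
  have hloc : localTerm (σ' ^ h) τ' (σ' * τ') = localTerm (σ ^ h) τ (σ * τ) := by
    have hC : Subgroup.centralizer ({((σ' ^ h : K) : G)} : Set G) ≤ K := by
      rw [Subgroup.coe_pow]; exact hCK
    unfold localTerm
    rw [centralizer_singleton_coe K _ hC, centralizer_pair_coe K _ _ hC,
      centralizer_pair_coe K _ _ hC, Subgroup.coe_pow, Subgroup.coe_mul]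
  rw [hloc] at hKlo
  have hpos := localTerm_pos (σ ^ h) τ (σ * τ)
  by_contra hlt
  have h3 : 3 * Nat.card K ≤ Nat.card G := by
    rw [← K.card_mul_index, mul_comm]
    exact Nat.mul_le_mul_left _ (by omega)
  have h3' : 3 * (Nat.card K : ℚ) ≤ (Nat.card G : ℚ) := by exact_mod_cast h3
  linarith

/-- In a simple group no proper subgroup with one class of involutions contains the centraliser
of a central involution of the dihedral Sylow `2`-subgroup. -/
theorem eq_top_of_one_class [IsSimpleGroup G] {P : Sylow 2 G} {h : ℕ} {σ τ : G}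
    (hD : DGen (P : Subgroup G) h σ τ) (hh : 2 ≤ h)
    (hone : ∀ a b : G, orderOf a = 2 → orderOf b = 2 → IsConj a b) (K : Subgroup G)
    (hCK : Subgroup.centralizer ({σ ^ h} : Set G) ≤ K)
    (honeK : ∀ a b : K, orderOf a = 2 → orderOf b = 2 → IsConj a b) : K = ⊤ := by
  have h2 := index_le_two hD hh hone K hCK honeK
  have h0 : K.index ≠ 0 := Subgroup.index_ne_zero_of_finite
  rcases (show K.index = 1 ∨ K.index = 2 by omega) with h1 | h1
  · exact Subgroup.index_eq_one.1 h1
  · rcases IsSimpleGroup.eq_bot_or_eq_top_of_normal K (Subgroup.normal_of_index_eq_two h1) with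
      h3 | h3
    · have hz : σ ^ h ∈ K := hCK (Subgroup.mem_centralizer_singleton_iff.2 rfl)
      rw [h3, Subgroup.mem_bot] at hz
      have := hD.z_order
      rw [hz, orderOf_one] at this
      omega
    · exact h3

/-- A subgroup with one class of involutions over the centraliser of an involution of a four
group Sylow `2`-subgroup has index at most `5`. -/
theorem klein_index_le_five (P : Sylow 2 G) (h4 : Nat.card (P : Subgroup G) = 4)
    (hexp : ∀ x ∈ (P : Subgroup G), x * x = 1)
    (hone : ∀ a b : G, orderOf a = 2 → orderOf b = 2 → IsConj a b) {J : G}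
    (hJ : J ∈ (P : Subgroup G)) (hJ2 : orderOf J = 2) (K : Subgroup G)
    (hCK : Subgroup.centralizer ({J} : Set G) ≤ K)
    (honeK : ∀ a b : K, orderOf a = 2 → orderOf b = 2 → IsConj a b) : K.index ≤ 5 := by
  haveI : Fact (Nat.Prime 2) := ⟨Nat.prime_two⟩
  have hcomm : ∀ x ∈ (P : Subgroup G), x * J = J * x := fun x hx => by
    have hi : ∀ y ∈ (P : Subgroup G), y⁻¹ = y := fun y hy =>
      inv_eq_of_mul_eq_one_right (hexp y hy)
    rw [← hi (x * J) (mul_mem hx hJ), mul_inv_rev, hi x hx, hi J hJ]
  have hPK : (P : Subgroup G) ≤ K := fun g hg =>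
    hCK (Subgroup.mem_centralizer_singleton_iff.2 (hcomm g hg))
  set P' : Sylow 2 K := P.subtype hPK
  have hcoe : (P' : Subgroup K) = (P : Subgroup G).subgroupOf K := Sylow.coe_subtype _ _
  have h4' : Nat.card (P' : Subgroup K) = 4 := by
    rw [hcoe, Nat.card_congr (Subgroup.subgroupOfEquivOfLe hPK).toEquiv, h4]
  set J' : K := ⟨J, hPK hJ⟩
  obtain ⟨-, hGhi⟩ := klein_card_bounds P h4 hexp hone hJ hJ2
  obtain ⟨hKlo, -⟩ := klein_card_bounds P' h4'
    (fun x hx => Subtype.ext (hexp x (by rw [hcoe] at hx; exact hx))) honeK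
    (J := J') (by rw [hcoe]; exact hJ) (by rw [← Subgroup.orderOf_coe]; exact hJ2)
  have hP : Nat.card (Subgroup.centralizer ((P' : Subgroup K) : Set K)) =
      Nat.card (Subgroup.centralizer ((P : Subgroup G) : Set G)) := by
    have h1 : (fun k : K => (k : G)) '' ((P' : Subgroup K) : Set K) = ((P : Subgroup G) : Set G) := by
      rw [hcoe]
      ext g
      exact ⟨by rintro ⟨k, hk, rfl⟩; exact hk, fun hg => ⟨⟨g, hPK hg⟩, hg, rfl⟩⟩
    have h2 : Subgroup.centralizer ((P : Subgroup G) : Set G) ≤ K :=
      (Subgroup.centralizer_le (Set.singleton_subset_iff.2 hJ)).trans hCK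
    rw [card_centralizer_coe K _ (h1.symm ▸ h2), h1]
  rw [hP, centralizer_singleton_coe K J' hCK] at hKlo
  have hpos : 0 < Nat.card (Subgroup.centralizer ((P : Subgroup G) : Set G)) ^ 2 :=
    pow_pos Nat.card_pos 2
  by_contra hlt
  have h6 : 6 * Nat.card K ≤ Nat.card G := by
    rw [← K.card_mul_index, mul_comm]
    exact Nat.mul_le_mul_left _ (by omega)
  have h7 := Nat.mul_le_mul_right (Nat.card (Subgroup.centralizer ((P : Subgroup G) : Set G)) ^ 2) h6
  have h8 : 0 < Nat.card K * Nat.card (Subgroup.centralizer ((P : Subgroup G) : Set G)) ^ 2 :=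
    Nat.mul_pos Nat.card_pos hpos
  nlinarith

end Cfsg.Agent.H35.GW
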