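import Cfsg.Agent.H35.GW.PairCoreFit
import Cfsg.Agent.H62.GW.MixedMain

/-!
# GW programme, M3: `PairFitHyp`
-/

set_option autoImplicit false

namespace Cfsg.Agent.H35.GW

open Cfsg.Agent.H62.GW

universe u

/-- `O ∩ C(s) = E` in the four group case. -/
theorem pairFit {G : Type u} [Group G] [Finite G] : PairFitHyp G :=
  fun _ l c s _ hM hc hl _ _ _ _ _ => pairCore_eq_fixPart hM hc (by
    subst hl
    simpa using mul_mem hM.t_mem hM.s_mem)

/-- The mixed case of GW. -/
theorem mixedCase {G : Type u} [Group G] [Finite G] : Cfsg.Agent.GW.MixedCase G :=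
  mixedCase_of_pairFit pairFit

end Cfsg.Agent.H35.GW
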